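import Mathlib.Algebra.Polynomial.Eval.Degree
import Mathlib.Algebra.Polynomial.Derivative
import Mathlib.RingTheory.Polynomial.Basic
import Mathlib.Tactic.LinearCombination

/-!
Characters of the additive group as polynomials, and natural homomorphisms on them.
-/

set_option autoImplicit false

universe u

open Polynomial

noncomputable section

namespace Groth.Agent.GaDD

/-- A character of the additive group. -/
structure IsChar {A : Type u} [CommRing A] (f : A[X]) : Prop where
  zero : f.eval 0 = 1
  add : ∀ (B : Type u) [CommRing B] (g : A →+* B) (x y : B), f.eval₂ g (x + y) = f.eval₂ g x * f.eval₂ g y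

variable {A : Type u} [CommRing A]

theorem isChar_one : IsChar (1 : A[X]) := ⟨by simp, fun B _ g x y => by simp⟩

theorem IsChar.mul {f f' : A[X]} (h : IsChar f) (h' : IsChar f') : IsChar (f * f') :=
  ⟨by rw [eval_mul, h.zero, h'.zero, one_mul], fun B _ g x y => by
    rw [eval₂_mul, eval₂_mul, eval₂_mul, h.add, h'.add]; ring⟩

theorem IsChar.map {f : A[X]} (h : IsChar f) {A' : Type u} [CommRing A'] (φ : A →+* A') : IsChar (f.map φ) :=
  ⟨by rw [← map_zero φ, eval_map, show f.eval₂ φ (φ 0) = φ (f.eval 0) from eval₂_at_apply φ 0, h.zero, map_one], fun B _ g x y => by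
    simp only [eval₂_map]; exact h.add B _ x y⟩

theorem IsChar.eval_mul_neg {f : A[X]} (h : IsChar f) (x : A) : f.eval x * f.eval (-x) = 1 := by
  have := h.add A (RingHom.id A) x (-x)
  rw [add_neg_cancel, eval₂_id, eval₂_id, eval₂_id, h.zero] at this
  exact this.symm

/-- The linear character attached to an element of square zero. -/
theorem isChar_linear {a : A} (ha : a ^ 2 = 0) : IsChar (1 + C a * X : A[X]) :=
  ⟨by simp, fun B _ g x y => by
    simp only [eval₂_add, eval₂_one, eval₂_mul, eval₂_C, eval₂_X]
    have : g a * g a = 0 := by rw [← map_mul, ← pow_two, ha, map_zero]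
    linear_combination (-(x * y)) * this⟩

/-- A natural homomorphism on characters. -/
structure CharHom (A : Type u) [CommRing A] where
  /-- the value -/
  val : ∀ {B : Type u} [CommRing B], (A →+* B) → B[X] → B
  mul : ∀ {B : Type u} [CommRing B] (g : A →+* B) (f f' : B[X]), IsChar f → IsChar f' →
    val g (f * f') = val g f * val g f'
  one : ∀ {B : Type u} [CommRing B] (g : A →+* B), val g 1 = 1
  map : ∀ {B B' : Type u} [CommRing B] [CommRing B'] (g : A →+* B) (φ : B →+* B') (f : B[X]), IsChar f →
    val (φ.comp g) (f.map φ) = φ (val g f)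

end Groth.Agent.GaDD
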