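import Groth.Agent.GaDD.Basic
import Mathlib.Algebra.Polynomial.Expand
import Mathlib.Algebra.MvPolynomial.Expand
import Mathlib.Algebra.DualNumber
import Mathlib.RingTheory.Ideal.Quotient.Operations
import Mathlib.Tactic.Ring
import Mathlib.Algebra.Polynomial.Taylor
import Mathlib.Algebra.CharP.Basic
import Mathlib.Algebra.CharP.Lemmas
import Mathlib.Data.Nat.Prime.Factorial

/-!
Natural homomorphisms on characters of the additive group in characteristic `p` are evaluations.
-/

set_option autoImplicit false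

universe u

open Polynomial Finset

noncomputable section

namespace Groth.Agent.GaDD

variable (p : ℕ) [hp : Fact p.Prime]

/-- An inverse of a factorial. -/
def cc (B : Type u) [CommRing B] (i : ℕ) : B := ((Nat.gcdA i.factorial p : ℤ) : B)

/-- The truncated exponential polynomial. -/
def EP (B : Type u) [CommRing B] : B[X] := ∑ i ∈ range p, C (cc p B i) * X ^ i

/-- The truncated exponential. -/
def E {B : Type u} [CommRing B] (a : B) : B[X] := (EP p B).comp (C a * X)

variable {B : Type u} [CommRing B] (hB : (p : B) = 0)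
include hB

theorem factorial_mul_cc {i : ℕ} (hi : i < p) : (i.factorial : B) * cc p B i = 1 := by
  have h := Nat.gcd_eq_gcd_ab i.factorial p
  rw [(Nat.Coprime.symm ((Nat.Prime.coprime_iff_not_dvd hp.out).2 fun hd =>
    (Nat.not_lt.2 ((Nat.Prime.dvd_factorial hp.out).1 hd)) hi)).gcd_eq_one] at h
  have h2 := congrArg (fun z : ℤ => (z : B)) h
  push_cast at h2
  rw [hB, zero_mul, add_zero] at h2
  exact h2.symm

theorem cc_zero : cc p B 0 = 1 := by
  simpa using factorial_mul_cc p hB hp.out.pos

theorem isUnit_cc {i : ℕ} (hi : i < p) : IsUnit (cc p B i) :=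
  IsUnit.of_mul_eq_one_right _ (factorial_mul_cc p hB hi)

theorem isUnit_natCast {n : ℕ} (h0 : 0 < n) (hn : n < p) : IsUnit (n : B) := by
  refine isUnit_of_dvd_one ?_
  refine dvd_trans ?_ (Dvd.intro _ (factorial_mul_cc p hB hn))
  exact_mod_cast Nat.cast_dvd_cast (α := B) (Nat.dvd_factorial h0 le_rfl)

theorem cc_succ {i : ℕ} (hi : i + 1 < p) : ((i + 1 : ℕ) : B) * cc p B (i + 1) = cc p B i := by
  have h1 := factorial_mul_cc p hB hi
  have h2 := factorial_mul_cc p hB (i := i) (by omega)
  rw [Nat.factorial_succ, Nat.cast_mul] at h1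
  linear_combination (cc p B i) * h1 - (((i + 1 : ℕ) : B) * cc p B (i + 1)) * h2

theorem cc_mul {i j : ℕ} (h : i + j < p) : cc p B i * cc p B j = ((i + j).choose i : B) * cc p B (i + j) := by
  have hi := factorial_mul_cc p hB (i := i) (by omega)
  have hj := factorial_mul_cc p hB (i := j) (by omega)
  have hij := factorial_mul_cc p hB h
  rw [← Nat.add_choose_mul_factorial_mul_factorial i j, Nat.cast_mul, Nat.cast_mul, ← Nat.choose_symm_add] at hij
  linear_combination (-(cc p B i * cc p B j)) * hij
    + (((i + j).choose i : B) * cc p B (i + j) * ((j.factorial : B) * cc p B j)) * hi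
    + (((i + j).choose i : B) * cc p B (i + j)) * hj

theorem eval_EP_mul {u v : B} (h : ∀ i j : ℕ, p ≤ i + j → u ^ i * v ^ j = 0) :
    (EP p B).eval u * (EP p B).eval v = (EP p B).eval (u + v) := by
  simp only [EP, eval_finsetSum, eval_mul, eval_C, eval_pow, eval_X]
  have key : ∀ n ∈ range p, cc p B n * (u + v) ^ n =
      ∑ x ∈ (range p ×ˢ range p).filter (fun x => x.1 + x.2 = n), cc p B x.1 * u ^ x.1 * (cc p B x.2 * v ^ x.2) := by
    intro n hn
    rw [mem_range] at hn
    rw [show (range p ×ˢ range p).filter (fun x => x.1 + x.2 = n) = antidiagonal n from ext fun x => by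
      simp only [mem_filter, mem_product, mem_range, HasAntidiagonal.mem_antidiagonal]
      omega, (Commute.all u v).add_pow', Finset.mul_sum]
    refine sum_congr rfl fun x hx => ?_
    rw [HasAntidiagonal.mem_antidiagonal] at hx
    subst hx
    rw [nsmul_eq_mul]
    linear_combination (-(u ^ x.1 * v ^ x.2)) * cc_mul p hB hn
  rw [sum_congr rfl key, sum_mul_sum, ← Finset.sum_product']
  have h0 : ∀ x ∈ range p ×ˢ range p, ¬ x.1 + x.2 < p → cc p B x.1 * u ^ x.1 * (cc p B x.2 * v ^ x.2) = 0 :=
    fun x _ hx => by linear_combination (cc p B x.1 * cc p B x.2) * h x.1 x.2 (by omega)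
  rw [← sum_filter_of_ne (p := fun x : ℕ × ℕ => x.1 + x.2 < p) fun x hx hne => by
    by_contra hlt; exact hne (h0 x hx hlt)]
  rw [← sum_fiberwise_of_maps_to (t := range p) (g := fun x : ℕ × ℕ => x.1 + x.2)
    (fun x hx => mem_range.2 (mem_filter.1 hx).2)]
  refine sum_congr rfl fun n hn => ?_
  rw [filter_filter]
  refine sum_congr (filter_congr fun x _ => ⟨fun h => h.2, fun h => ⟨h ▸ mem_range.1 hn, h⟩⟩) fun _ _ => rfl

omit hB in
theorem map_cc {B' : Type u} [CommRing B'] (g : B →+* B') (i : ℕ) : g (cc p B i) = cc p B' i := map_intCast g _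

omit hB in
theorem map_EP {B' : Type u} [CommRing B'] (g : B →+* B') : (EP p B).map g = EP p B' := by
  simp only [EP, Polynomial.map_sum, Polynomial.map_mul, Polynomial.map_C, Polynomial.map_pow, Polynomial.map_X]
  exact sum_congr rfl fun i _ => by rw [map_cc p g i]

omit hB in
theorem eval₂_E {B' : Type u} [CommRing B'] (g : B →+* B') (a : B) (x : B') :
    (E p a).eval₂ g x = (EP p B').eval (g a * x) := by
  rw [E, eval₂_comp, ← map_EP p g, eval_map]; simp

omit hB in
theorem map_E {B' : Type u} [CommRing B'] (g : B →+* B') (a : B) : (E p a).map g = E p (g a) := by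
  rw [E, Polynomial.map_comp, map_EP]; simp [E]

theorem EP_eval_zero : (EP p B).eval 0 = 1 := by
  simp only [EP, eval_finsetSum, eval_mul, eval_C, eval_pow, eval_X]
  rw [sum_eq_single 0 (fun i _ hi => by simp [zero_pow hi]) fun h => absurd (mem_range.2 hp.out.pos) h]
  simp [cc_zero p hB]

theorem E_zero : E p (0 : B) = 1 := by
  simp [E, comp_zero, EP_eval_zero p hB]

theorem isChar_E {a : B} (ha : a ^ p = 0) : IsChar (E p a) := by
  refine ⟨?_, fun B' _ g x y => ?_⟩
  · rw [← eval₂_id, eval₂_E, mul_zero, EP_eval_zero p hB]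
  · have hB' : (p : B') = 0 := by rw [← map_natCast g, hB, map_zero]
    rw [eval₂_E, eval₂_E, eval₂_E, mul_add, eval_EP_mul p hB' fun i j hij => ?_]
    rw [mul_pow, mul_pow, mul_mul_mul_comm, ← pow_add, ← map_pow, pow_eq_zero_of_le hij ha, map_zero, zero_mul]

theorem derivative_EP : derivative (EP p B) = EP p B - C (cc p B (p - 1)) * X ^ (p - 1) := by
  obtain ⟨q, hq⟩ : ∃ q, p = q + 1 := ⟨p - 1, by have := hp.out.pos; omega⟩
  have h1 : ∀ i ∈ range q, C (((i + 1 : ℕ) : B) * cc p B (i + 1)) * X ^ i = C (cc p B i) * X ^ i := fun i hi => by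
    rw [cc_succ p hB (by have := mem_range.1 hi; omega)]
  rw [EP, derivative_sum]
  conv_lhs => rw [hq, sum_range_succ']
  conv_rhs => rw [hq, sum_range_succ]
  simp only [derivative_C_mul_X_pow, add_tsub_cancel_right]
  rw [← hq]
  simp only [Nat.cast_zero, mul_zero, map_zero, zero_mul, add_zero, add_sub_cancel_right,
    show p - 1 = q by omega]
  refine (sum_congr rfl fun i hi => ?_).trans (sum_congr rfl h1)
  rw [mul_comm (cc p B (i + 1))]

theorem derivative_E {a : B} (ha : a ^ p = 0) : derivative (E p a) = C a * E p a := by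
  rw [E, derivative_comp, derivative_EP p hB]
  simp only [derivative_mul, derivative_C, derivative_X, zero_mul, zero_add, mul_one, sub_comp, mul_comp, C_comp,
    pow_comp, X_comp, mul_sub, mul_pow, ← map_pow]
  have e : C a * (C (cc p B (p - 1)) * (C (a ^ (p - 1)) * X ^ (p - 1))) = 0 := by
    have h1 : a * a ^ (p - 1) = 0 := by rw [← pow_succ', Nat.sub_add_cancel hp.out.one_le, ha]
    have h2 : C a * C (a ^ (p - 1)) = 0 := by rw [← C_mul, h1, C_0]
    linear_combination (C (cc p B (p - 1)) * X ^ (p - 1)) * h2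
  rw [e, sub_zero]

theorem E_mul_neg {a : B} (ha : a ^ p = 0) : E p a * E p (-a) = 1 := by
  have h : ∀ i j : ℕ, p ≤ i + j → (C a * X : B[X]) ^ i * (C (-a) * X) ^ j = 0 := fun i j hij => by
    rw [map_neg, neg_mul, neg_pow (C a * X) j, mul_left_comm, ← pow_add, mul_pow, ← C_pow,
      pow_eq_zero_of_le hij ha, C_0, zero_mul, mul_zero]
  have hBX : (p : B[X]) = 0 := by rw [← map_natCast (C : B →+* B[X]), hB, map_zero]
  have key := eval_EP_mul p hBX h
  rw [map_neg, neg_mul, add_neg_cancel, EP_eval_zero p hBX] at key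
  rw [← key, ← map_EP p (C : B →+* B[X]), eval_map, eval_map, E, E, comp, comp, map_neg, neg_mul]

theorem E_of_sq {κ : B} (hκ : κ ^ 2 = 0) : E p κ = 1 + C κ * X := by
  have hκ' : (C κ * X : B[X]) ^ 2 = 0 := by rw [mul_pow, ← C_pow, hκ, C_0, zero_mul]
  have hP : (derivative (EP p B)).eval 0 = 1 := by
    rw [derivative_EP p hB, eval_sub, EP_eval_zero p hB, eval_mul, eval_pow, eval_X,
      zero_pow (Nat.sub_ne_zero_of_lt hp.out.one_lt), mul_zero, sub_zero]
  have h := eval_add_of_sq_eq_zero ((EP p B).map C) (0 : B[X]) (C κ * X) hκ'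
  rw [zero_add, derivative_map, ← map_zero (C : B →+* B[X]), eval_map_apply, eval_map_apply, EP_eval_zero p hB,
    hP, map_one, one_mul] at h
  rw [E, comp, ← eval_map]
  exact h

theorem E_mul_linear {a b : B} (ha : a ^ p = 0) (hb : b ^ 2 = 0) :
    E p a * (1 + C b * X) = E p (a + b) * (1 + C (cc p B (p - 1) * a ^ (p - 1) * b) * X ^ p) := by
  set κ := cc p B (p - 1) * a ^ (p - 1) * b with hκdef
  have hb' : (C b * X : B[X]) ^ 2 = 0 := by rw [mul_pow, ← C_pow, hb, C_0, zero_mul]
  have h := eval_add_of_sq_eq_zero ((EP p B).map C) (C a * X) (C b * X) hb'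
  rw [derivative_map, derivative_EP p hB, Polynomial.map_sub, eval_sub, Polynomial.map_mul, Polynomial.map_pow,
    Polynomial.map_C, Polynomial.map_X, eval_mul, eval_C, eval_pow, eval_X, ← add_mul, ← C_add] at h
  have hE : ∀ c : B, ((EP p B).map C).eval (C c * X) = E p c := fun c => by rw [E, comp, eval_map]
  rw [hE, hE] at h
  have hk0 : κ * (a + b) = 0 := by
    have h1 : a ^ (p - 1) * a = 0 := by rw [← pow_succ, Nat.sub_add_cancel hp.out.one_le, ha]
    rw [hκdef]
    linear_combination (cc p B (p - 1) * b) * h1 + (cc p B (p - 1) * a ^ (p - 1)) * hb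
  have hk : C κ * E p (a + b) = C κ := by
    conv_lhs => rw [E, ← X_mul_divX_add (EP p B), add_comp, mul_comp, X_comp, C_comp,
      coeff_zero_eq_eval_zero, EP_eval_zero p hB, C_1, mul_add, mul_one, ← mul_assoc, ← mul_assoc,
      ← C_mul, hk0, C_0, zero_mul, zero_mul, zero_add]
  have hX : (X : B[X]) ^ (p - 1) * X = X ^ p := by rw [← pow_succ, Nat.sub_add_cancel hp.out.one_le]
  rw [mul_add (E p (a + b)), mul_one, ← mul_assoc (E p (a + b)), mul_comm (E p (a + b)) (C κ), hk, h]
  rw [hκdef]
  simp only [mul_pow, C_mul, C_pow]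
  linear_combination (C (cc p B (p - 1)) * C a ^ (p - 1) * C b) * hX

omit hp in
theorem iterate_derivative_eq_zero_char (hp0 : 0 < p) (f : B[X]) : derivative^[p] f = 0 := by
  ext n
  rw [coeff_iterate_derivative, coeff_zero]
  have : (p : ℕ) ∣ (n + p).descFactorial p :=
    (Nat.dvd_factorial hp0 le_rfl).trans (Nat.factorial_dvd_descFactorial _ _)
  obtain ⟨m, hm⟩ := this
  rw [nsmul_eq_mul, hm, Nat.cast_mul, hB, zero_mul, zero_mul]

theorem IsChar.derivative_eq {f : B[X]} (hf : IsChar f) : derivative f = C (f.coeff 1) * f := by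
  have h := hf.add (DualNumber B[X]) ((TrivSqZeroExt.inlHom B[X] B[X]).comp C)
    (TrivSqZeroExt.inl X) (DualNumber.eps)
  have e1 : ∀ u : B[X], f.eval₂ ((TrivSqZeroExt.inlHom B[X] B[X]).comp C) (TrivSqZeroExt.inl u + DualNumber.eps) =
      TrivSqZeroExt.inl (f.comp u) + TrivSqZeroExt.inl ((derivative f).comp u) * DualNumber.eps := fun u => by
    rw [← eval_map, eval_add_of_sq_eq_zero _ _ _ (by rw [pow_two]; exact DualNumber.eps_mul_eps), derivative_map,
      eval_map, eval_map]
    simp only [comp]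
    congr 1
    · exact (hom_eval₂ f C (TrivSqZeroExt.inlHom B[X] B[X]) u).symm
    · rw [show (TrivSqZeroExt.inl ((derivative f).eval₂ C u) : DualNumber B[X]) =
        TrivSqZeroExt.inlHom B[X] B[X] ((derivative f).eval₂ C u) from rfl, hom_eval₂]; rfl
  have e2 : f.eval₂ ((TrivSqZeroExt.inlHom B[X] B[X]).comp C) (TrivSqZeroExt.inl X) =
      TrivSqZeroExt.inl f := by
    rw [show (TrivSqZeroExt.inl X : DualNumber B[X]) = TrivSqZeroExt.inlHom B[X] B[X] X from rfl, ← hom_eval₂,
      eval₂_C_X]; rfl
  have e3 := e1 0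
  rw [TrivSqZeroExt.inl_zero, zero_add] at e3
  rw [e1, e2, e3, comp_X, comp_X, comp_zero, comp_zero, hf.zero] at h
  have h2 := congrArg TrivSqZeroExt.snd h
  simp [TrivSqZeroExt.snd_mul] at h2
  rw [h2, ← coeff_zero_eq_eval_zero, coeff_derivative]
  simp [mul_comm]

theorem IsChar.pow_eq_zero {f : B[X]} (hf : IsChar f) : f.coeff 1 ^ p = 0 := by
  have h : ∀ n, derivative^[n] f = C (f.coeff 1 ^ n) * f := fun n => by
    induction n with
    | zero => simp
    | succ n ih =>
      rw [Function.iterate_succ_apply', ih, derivative_mul, derivative_C, zero_mul, zero_add, hf.derivative_eq p hB,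
        ← mul_assoc, ← C_mul, pow_succ]
  have h2 := congrArg (eval 0) (h p)
  rw [iterate_derivative_eq_zero_char p hB hp.out.pos, eval_zero, eval_mul, eval_C, hf.zero, mul_one] at h2
  exact h2.symm

theorem exists_expand {g : B[X]} (h : derivative g = 0) : ∃ k : B[X], expand B p k = g := by
  refine ⟨contract p g, ?_⟩
  ext n
  rw [coeff_expand hp.out.pos]
  split_ifs with hn
  · rw [coeff_contract hp.out.ne_zero, Nat.div_mul_cancel hn]
  · rcases n with _ | n
    · exact absurd (dvd_zero p) hn
    have h1 := congrArg (coeff · n) h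
    simp only [coeff_derivative, coeff_zero] at h1
    have hu : IsUnit ((n + 1 : ℕ) : B) := by
      obtain ⟨m, hm⟩ := Int.ModEq.dvd (Int.mod_modEq ((n + 1 : ℕ) : ℤ) (p : ℤ))
      have h2 := congrArg (fun z : ℤ => (z : B)) hm
      push_cast at h2
      rw [hB, zero_mul, sub_eq_zero] at h2
      have h3 : (((n : ℤ) + 1) % (p : ℤ) : ℤ) = (((n + 1) % p : ℕ) : ℤ) := by push_cast; rfl
      rw [h3, Int.cast_natCast] at h2
      push_cast
      rw [h2]
      exact isUnit_natCast p hB (Nat.pos_of_ne_zero fun h0 => hn (Nat.dvd_of_mod_eq_zero h0))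
        (Nat.mod_lt _ hp.out.pos)
    exact (hu.mul_left_eq_zero.1 (by rw [Nat.cast_add, Nat.cast_one]; exact h1)).symm

include hB in
theorem IsChar.of_expand {k : B[X]} (h : IsChar (expand B p k)) : IsChar k := by
  refine ⟨?_, fun B' _ g x y => ?_⟩
  · have := h.zero
    rwa [expand_eval, zero_pow hp.out.ne_zero] at this
  · let Q := MvPolynomial (Fin 2) B'
    let g' : B →+* Q := MvPolynomial.C.comp g
    have hQ : (MvPolynomial.expand p).toRingHom.comp g' = g' := RingHom.ext fun b => MvPolynomial.expand_C p _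
    have hadd := h.add Q g' (MvPolynomial.X 0) (MvPolynomial.X 1)
    have he : ∀ z : Q, (expand B p k).eval₂ g' z = k.eval₂ g' (z ^ p) := fun z => by
      rw [expand_eq_comp_X_pow, eval₂_comp, eval₂_X_pow]
    haveI : Nonempty (Fin 2) := ⟨0⟩
    by_cases hnt : Nontrivial B'
    · haveI : CharP B' p := by
        refine (CharP.charP_iff_prime_eq_zero hp.out).2 ?_
        exact (map_natCast g p).symm.trans (by rw [hB, map_zero])
      haveI : ExpChar B' p := ExpChar.prime hp.out
      haveI : ExpChar Q p := ExpChar.prime hp.out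
      rw [he, he, he, add_pow_expChar] at hadd
      have hexp : ∀ z : Q, MvPolynomial.expand p (k.eval₂ g' z) = k.eval₂ g' (MvPolynomial.expand p z) := fun z => by
        rw [show MvPolynomial.expand p (k.eval₂ g' z) = (MvPolynomial.expand p).toRingHom (k.eval₂ g' z) from rfl,
          hom_eval₂, hQ]; rfl
      have h3 : MvPolynomial.expand p (k.eval₂ g' (MvPolynomial.X 0 + MvPolynomial.X 1)) =
          MvPolynomial.expand p (k.eval₂ g' (MvPolynomial.X 0) * k.eval₂ g' (MvPolynomial.X 1)) := by
        rw [map_mul, hexp, hexp, hexp, map_add, MvPolynomial.expand_X, MvPolynomial.expand_X]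
        exact hadd
      have h4 := congrArg (MvPolynomial.eval ![x, y]) (MvPolynomial.expand_injective hp.out.pos h3)
      have he2 : ∀ z : Q, MvPolynomial.eval ![x, y] (k.eval₂ g' z) = k.eval₂ g (MvPolynomial.eval ![x, y] z) :=
        fun z => by
          rw [hom_eval₂]
          congr 1
          exact RingHom.ext fun b => MvPolynomial.eval_C _
      rw [map_mul, he2, he2, he2] at h4
      simpa using h4
    · haveI : Subsingleton B' := not_nontrivial_iff_subsingleton.1 hnt
      exact Subsingleton.elim _ _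

theorem degree_E_le (a : B) : (E p a).natDegree ≤ p - 1 := by
  refine (natDegree_comp_le).trans ?_
  refine le_trans (Nat.mul_le_mul (natDegree_sum_le_of_forall_le _ _ fun i hi => ?_) ((natDegree_C_mul_le a X).trans natDegree_X_le)) (by omega : (p - 1) * 1 ≤ p - 1)
  exact (natDegree_C_mul_X_pow_le _ _).trans (by have := mem_range.1 hi; omega)

/-- Every character is a truncated exponential times a character in the `p`-th power. -/
theorem IsChar.decomp {f : B[X]} (hf : IsChar f) :
    ∃ k : B[X], IsChar k ∧ f = E p (f.coeff 1) * expand B p k ∧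
      (f.natDegree ≤ 1 → k = 1) ∧ (2 ≤ f.natDegree → k.natDegree < f.natDegree) := by
  set a := f.coeff 1 with ha'
  have ha : a ^ p = 0 := hf.pow_eq_zero p hB
  have hn : (-a) ^ p = 0 := by rw [neg_pow, ha, mul_zero]
  have hd : derivative (f * E p (-a)) = 0 := by
    rw [derivative_mul, hf.derivative_eq p hB, derivative_E p hB hn, ← ha', map_neg]; ring
  obtain ⟨k, hk⟩ := exists_expand p hB hd
  have hfk : f = E p a * expand B p k := by rw [hk, mul_left_comm, E_mul_neg p hB ha, mul_one]
  refine ⟨k, IsChar.of_expand p hB (hk ▸ hf.mul (isChar_E p hB hn)), hfk, fun h1 => ?_, fun h2 => ?_⟩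
  · have hlin : f = 1 + C a * X := by
      conv_lhs => rw [eq_X_add_C_of_natDegree_le_one h1]
      rw [coeff_zero_eq_eval_zero, hf.zero, C_1, add_comm, ← ha']
    have hsq : a ^ 2 = 0 := by
      have h3 := hf.derivative_eq p hB
      rw [← ha', hlin] at h3
      simpa [coeff_one, pow_two] using (congrArg (coeff · 1) h3).symm
    have h4 : f = E p a := by rw [E_of_sq p hB hsq]; exact hlin
    have h5 : expand B p k = expand B p 1 := by
      rw [map_one, ← mul_one (expand B p k), ← E_mul_neg p hB ha, ← mul_assoc, mul_comm (expand B p k), ← hfk]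
      rw [h4, E_mul_neg p hB ha]
    exact expand_injective hp.out.pos h5
  · have h3 : k.natDegree * p ≤ f.natDegree + (p - 1) := by
      rw [← natDegree_expand p, hk]
      exact natDegree_mul_le.trans (Nat.add_le_add_left (degree_E_le p hB _) _)
    by_contra hlt
    have h6 : f.natDegree * p ≤ k.natDegree * p := Nat.mul_le_mul_right _ (Nat.le_of_not_lt hlt)
    have h7 : 2 * (p - 1) ≤ f.natDegree * (p - 1) := Nat.mul_le_mul_right _ h2
    have h8 : f.natDegree * p = f.natDegree * (p - 1) + f.natDegree := by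
      conv_lhs => rw [← Nat.sub_add_cancel hp.out.one_le, mul_add, mul_one]
    have := hp.out.two_le
    omega

end Groth.Agent.GaDD
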