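import Groth.Agent.GaDD.Basic
import Mathlib.RingTheory.Nilpotent.Exp
import Mathlib.RingTheory.Polynomial.Nilpotent
import Mathlib.RingTheory.Localization.FractionRing
import Mathlib.Algebra.Polynomial.Taylor
import Mathlib.Algebra.DualNumber
import Mathlib.RingTheory.Ideal.Quotient.Operations

/-!
A natural homomorphism on characters over the rationals is the evaluation at a point.
-/

set_option autoImplicit false
set_option backward.isDefEq.respectTransparency false
set_option linter.style.haveILetI false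

universe u

open Polynomial

noncomputable section

namespace Groth.Agent.GaDD

/-- All positive integers are invertible. -/
def QUnits (B : Type u) [CommRing B] : Prop := ∀ n : ℕ, 0 < n → IsUnit (n : B)

theorem QUnits.map {A B : Type u} [CommRing A] [CommRing B] (h : QUnits A) (g : A →+* B) : QUnits B :=
  fun n hn => by rw [← map_natCast g]; exact (h n hn).map g

theorem QUnits.poly {B : Type u} [CommRing B] (h : QUnits B) : QUnits B[X] := h.map C

theorem QUnits.exists_rat {B : Type u} [CommRing B] (h : QUnits B) : Nonempty (Algebra ℚ B) := by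
  have hu : ∀ y : nonZeroDivisors ℤ, IsUnit (Int.castRingHom B y) := fun y => by
    have hy : (y : ℤ) ≠ 0 := nonZeroDivisors.ne_zero y.2
    rcases Int.natAbs_eq (y : ℤ) with e | e <;>
    · rw [e]
      simpa using h _ (Int.natAbs_pos.2 hy)
  exact ⟨(IsLocalization.lift (S := ℚ) hu).toAlgebra⟩

variable {B : Type u} [CommRing B]

/-- The multiples of `a * x`, exponentiated. -/
def E0 (h : QUnits B) (a : B) : B[X] :=
  haveI : Algebra ℚ B := h.exists_rat.some
  IsNilpotent.exp (C a * X : B[X])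

theorem isNilpotent_C_mul_X {a : B} (ha : IsNilpotent a) : IsNilpotent (C a * X : B[X]) :=
  (Commute.all _ _).isNilpotent_mul_right (ha.map C)

theorem eval₂_E0 (h : QUnits B) {a : B} (ha : IsNilpotent a) {B' : Type u} [CommRing B'] [Algebra ℚ B']
    (g : B →+* B') (x : B') : (E0 h a).eval₂ g x = IsNilpotent.exp (g a * x) := by
  letI : Algebra ℚ B := h.exists_rat.some
  show eval₂RingHom g x (IsNilpotent.exp (C a * X : B[X])) = _
  rw [IsNilpotent.map_exp (isNilpotent_C_mul_X ha)]
  simp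

theorem isChar_E0 (h : QUnits B) {a : B} (ha : IsNilpotent a) : IsChar (E0 h a) := by
  letI : Algebra ℚ B := h.exists_rat.some
  refine ⟨by rw [← eval₂_id, eval₂_E0 h ha, mul_zero, IsNilpotent.exp_zero], fun B' _ g x y => ?_⟩
  letI : Algebra ℚ B' := (h.map g).exists_rat.some
  rw [eval₂_E0 h ha, eval₂_E0 h ha, eval₂_E0 h ha, mul_add,
    IsNilpotent.exp_add_of_commute (Commute.all _ _) ((Commute.all _ _).isNilpotent_mul_right (ha.map g))
      ((Commute.all _ _).isNilpotent_mul_right (ha.map g))]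

theorem IsChar.derivative_eq' {f : B[X]} (hf : IsChar f) : derivative f = C (f.coeff 1) * f := by
  have h := hf.add (DualNumber B[X]) ((TrivSqZeroExt.inlHom B[X] B[X]).comp C)
    (TrivSqZeroExt.inl X) (DualNumber.eps)
  have e1 : ∀ u : B[X], f.eval₂ ((TrivSqZeroExt.inlHom B[X] B[X]).comp C) (TrivSqZeroExt.inl u + DualNumber.eps) =
      TrivSqZeroExt.inl (f.comp u) + TrivSqZeroExt.inl ((derivative f).comp u) * DualNumber.eps := fun u => by
    rw [← eval_map, eval_add_of_sq_eq_zero _ _ _ (by rw [pow_two]; exact DualNumber.eps_mul_eps), derivative_map,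
      eval_map, eval_map]
    simp only [comp]
    congr 1
    · exact (hom_eval₂ f C (TrivSqZeroExt.inlHom B[X] B[X]) u).symm
    · rw [show (TrivSqZeroExt.inl ((derivative f).eval₂ C u) : DualNumber B[X]) =
        TrivSqZeroExt.inlHom B[X] B[X] ((derivative f).eval₂ C u) from rfl, hom_eval₂]; rfl
  have e2 : f.eval₂ ((TrivSqZeroExt.inlHom B[X] B[X]).comp C) (TrivSqZeroExt.inl X) =
      TrivSqZeroExt.inl f := by
    rw [show (TrivSqZeroExt.inl X : DualNumber B[X]) = TrivSqZeroExt.inlHom B[X] B[X] X from rfl, ← hom_eval₂,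
      eval₂_C_X]; rfl
  have e3 := e1 0
  rw [TrivSqZeroExt.inl_zero, zero_add] at e3
  rw [e1, e2, e3, comp_X, comp_X, comp_zero, comp_zero, hf.zero] at h
  have h2 := congrArg TrivSqZeroExt.snd h
  simp [TrivSqZeroExt.snd_mul] at h2
  rw [h2, ← coeff_zero_eq_eval_zero, coeff_derivative]
  simp [mul_comm]

theorem IsChar.isNilpotent_coeff {f : B[X]} (hf : IsChar f) : IsNilpotent (f.coeff 1) := by
  refine ⟨f.natDegree + 1, ?_⟩
  have h : ∀ n, derivative^[n] f = C (f.coeff 1 ^ n) * f := fun n => by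
    induction n with
    | zero => simp
    | succ n ih =>
      rw [Function.iterate_succ_apply', ih, derivative_mul, derivative_C, zero_mul, zero_add, hf.derivative_eq',
        ← mul_assoc, ← C_mul, pow_succ]
  have h2 := congrArg (eval 0) (h (f.natDegree + 1))
  rw [iterate_derivative_eq_zero (Nat.lt_succ_self _), eval_zero, eval_mul, eval_C, hf.zero, mul_one] at h2
  exact h2.symm

theorem IsChar.eq_of_coeff {f f' : B[X]} (h : QUnits B) (hf : IsChar f) (hf' : IsChar f')
    (e : f.coeff 1 = f'.coeff 1) : f = f' := by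
  ext n
  induction n with
  | zero => rw [coeff_zero_eq_eval_zero, coeff_zero_eq_eval_zero, hf.zero, hf'.zero]
  | succ n ih =>
    have h1 := congrArg (coeff · n) hf.derivative_eq'
    have h2 := congrArg (coeff · n) hf'.derivative_eq'
    simp only [coeff_derivative, coeff_C_mul] at h1 h2
    have hu : IsUnit ((n : B) + 1) := by exact_mod_cast h (n + 1) (Nat.succ_pos n)
    exact hu.mul_left_injective (show f.coeff (n + 1) * ((n : B) + 1) = f'.coeff (n + 1) * ((n : B) + 1) by
      rw [h1, h2, ih, e])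

theorem coeff_one_E0 (h : QUnits B) {a : B} (ha : IsNilpotent a) : (E0 h a).coeff 1 = a := by
  letI : Algebra ℚ B := h.exists_rat.some
  obtain ⟨n, hn⟩ := ha
  have hz : (C a * X : B[X]) ^ (n + 2) = 0 := by
    rw [mul_pow, ← C_pow, pow_eq_zero_of_le (by omega) hn, C_0, zero_mul]
  show (IsNilpotent.exp (C a * X : B[X])).coeff 1 = a
  rw [IsNilpotent.exp_eq_sum hz, finsetSum_coeff, Finset.sum_eq_single 1]
  · simp
  · intro i _ hi
    rw [coeff_smul, mul_pow, ← C_pow, coeff_C_mul, coeff_X_pow, if_neg (Ne.symm hi), mul_zero, smul_zero]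
  · intro h1; exact absurd (Finset.mem_range.2 (by omega)) h1

theorem map_E0 (h : QUnits B) {a : B} (ha : IsNilpotent a) {B' : Type u} [CommRing B'] (h' : QUnits B') (g : B →+* B') :
    (E0 h a).map g = E0 h' (g a) :=
  IsChar.eq_of_coeff h' ((isChar_E0 h ha).map g) (isChar_E0 h' (ha.map g))
    (by rw [coeff_map, coeff_one_E0 h ha, coeff_one_E0 h' (ha.map g)])

variable {A : Type u} [CommRing A]

theorem eval₂_of_sq' {B : Type u} [CommRing B] (g : A →+* B) (U : A[X]) {e : B} (he : e ^ 2 = 0) :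
    U.eval₂ g e = g (U.coeff 0) + g (U.coeff 1) * e := by
  have h := eval_add_of_sq_eq_zero (U.map g) 0 e he
  rw [zero_add, ← coeff_zero_eq_eval_zero, ← coeff_zero_eq_eval_zero, derivative_map, coeff_map, coeff_map,
    coeff_derivative, eval_map] at h
  simpa using h

theorem exists_univ0 (hA : QUnits A) (ψ : CharHom A) (n : ℕ) :
    ∃ U : A[X], ∀ {B : Type u} [CommRing B] (g : A →+* B) (a : B), a ^ n = 0 →
      ψ.val g (E0 (hA.map g) a) = U.eval₂ g a := by
  let I : Ideal A[X] := Ideal.span {(X : A[X]) ^ n}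
  let q : A[X] →+* A[X] ⧸ I := Ideal.Quotient.mk I
  let g₀ : A →+* A[X] ⧸ I := q.comp C
  have ha₀ : IsNilpotent (q X) := ⟨n, by
    rw [← map_pow, Ideal.Quotient.eq_zero_iff_mem]; exact Ideal.mem_span_singleton_self _⟩
  obtain ⟨U, hU⟩ := Ideal.Quotient.mk_surjective (ψ.val g₀ (E0 (hA.map g₀) (q X)))
  refine ⟨U, fun {B} _ g a ha => ?_⟩
  let φ : A[X] ⧸ I →+* B := Ideal.Quotient.lift I (eval₂RingHom g a) fun r hr => by
    obtain ⟨s, rfl⟩ := Ideal.mem_span_singleton.1 hr
    simp [ha]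
  have hg : φ.comp g₀ = g := RingHom.ext fun r => eval₂_C g a
  have hm := ψ.map g₀ φ (E0 (hA.map g₀) (q X)) (isChar_E0 _ ha₀)
  rw [map_E0 _ ha₀ (hA.map g) φ, hg, show φ (q X) = a from eval₂_X g a, ← hU] at hm
  exact hm

theorem eq_one0 (hA : QUnits A) (ψ : CharHom A)
    (hψ : ∀ {B : Type u} [CommRing B] (g : A →+* B) (e : B), e ^ 2 = 0 → ψ.val g (E0 (hA.map g) e) = 1)
    {B : Type u} [CommRing B] (g : A →+* B) {a : B} (ha : IsNilpotent a) : ψ.val g (E0 (hA.map g) a) = 1 := by
  obtain ⟨n, hn⟩ := ha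
  obtain ⟨U, hU⟩ := exists_univ0 hA ψ (n + 2)
  rw [hU g a (pow_eq_zero_of_le (by omega) hn)]
  have h0 : U.coeff 0 = 1 := by
    have h := hU (RingHom.id A) 0 (zero_pow (by omega))
    rw [hψ _ _ (zero_pow two_ne_zero), eval₂_id, ← coeff_zero_eq_eval_zero] at h
    exact h.symm
  -- the derivative vanishes
  let I : Ideal A[X] := Ideal.span {(X : A[X]) ^ (n + 1)}
  let q : A[X] →+* A[X] ⧸ I := Ideal.Quotient.mk I
  let ι : A[X] ⧸ I →+* DualNumber (A[X] ⧸ I) := TrivSqZeroExt.inlHom (A[X] ⧸ I) (A[X] ⧸ I)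
  have key : ∀ (B' : Type u) [CommRing B'] (g' : A →+* B') (c b : B'), c ^ (n + 1) = 0 → b ^ 2 = 0 →
      (derivative U).eval₂ g' c * b = 0 := fun B' _ g' c b hc hb => by
    have hcn : IsNilpotent c := ⟨n + 1, hc⟩
    have hbn : IsNilpotent b := ⟨2, hb⟩
    have hsum : (c + b) ^ (n + 2) = 0 := (Commute.all c b).add_pow_eq_zero_of_add_le_succ_of_pow_eq_zero hc hb le_rfl
    have hmul : E0 (hA.map g') (c + b) = E0 (hA.map g') c * E0 (hA.map g') b :=
      IsChar.eq_of_coeff (hA.map g') (isChar_E0 _ ⟨n + 2, hsum⟩) ((isChar_E0 _ hcn).mul (isChar_E0 _ hbn)) (by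
        rw [coeff_one_E0 _ ⟨n + 2, hsum⟩, coeff_mul, Finset.Nat.sum_antidiagonal_succ,
          Finset.Nat.antidiagonal_zero, Finset.sum_singleton, coeff_one_E0 _ hcn, coeff_one_E0 _ hbn,
          coeff_zero_eq_eval_zero, coeff_zero_eq_eval_zero, (isChar_E0 _ hcn).zero, (isChar_E0 _ hbn).zero]
        ring)
    have h := congrArg (ψ.val g') hmul
    rw [ψ.mul g' _ _ (isChar_E0 _ hcn) (isChar_E0 _ hbn), hψ g' b hb, mul_one, hU g' _ hsum,
      hU g' c (pow_eq_zero_of_le (by omega) hc)] at h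
    have h2 := eval_add_of_sq_eq_zero (U.map g') c b hb
    rw [derivative_map, eval_map, eval_map, eval_map, h] at h2
    exact left_eq_add.1 h2
  have hq : (q X) ^ (n + 1) = 0 := by
    rw [← map_pow, Ideal.Quotient.eq_zero_iff_mem]; exact Ideal.mem_span_singleton_self _
  have hd := key (DualNumber (A[X] ⧸ I)) (ι.comp (q.comp C)) (ι (q X)) DualNumber.eps
    (by rw [← map_pow, hq, map_zero]) (by rw [pow_two]; exact DualNumber.eps_mul_eps)
  have hev : (derivative U).eval₂ (ι.comp (q.comp C)) (ι (q X)) = ι (q (derivative U)) := by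
    show (derivative U).eval₂ ((ι.comp q).comp C) ((ι.comp q) X) = (ι.comp q) (derivative U)
    rw [← hom_eval₂, eval₂_C_X]
  rw [hev] at hd
  have hz : q (derivative U) = 0 := by
    have h3 := congrArg TrivSqZeroExt.snd hd
    change TrivSqZeroExt.snd ((TrivSqZeroExt.inl (q (derivative U)) : TrivSqZeroExt (A[X] ⧸ I) (A[X] ⧸ I)) *
      TrivSqZeroExt.inr 1) = TrivSqZeroExt.snd (0 : TrivSqZeroExt (A[X] ⧸ I) (A[X] ⧸ I)) at h3
    simpa only [TrivSqZeroExt.inl_mul_inr, TrivSqZeroExt.snd_inr, TrivSqZeroExt.snd_zero, smul_eq_mul, mul_one] using h3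
  rw [Ideal.Quotient.eq_zero_iff_mem, Ideal.mem_span_singleton, X_pow_dvd_iff] at hz
  have hlow : ∀ i < n + 2, (U - 1).coeff i = 0 := fun i hi => by
    rcases i with _ | i
    · rw [coeff_sub, h0, coeff_one_zero, sub_self]
    · rw [coeff_sub, coeff_one, if_neg (Nat.succ_ne_zero i), sub_zero]
      have h4 := hz i (by omega)
      rw [coeff_derivative] at h4
      have hu : IsUnit ((i : A) + 1) := by exact_mod_cast hA (i + 1) (Nat.succ_pos i)
      exact hu.mul_left_eq_zero.1 h4
  obtain ⟨r, hr⟩ := X_pow_dvd_iff.2 hlow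
  rw [sub_eq_iff_eq_add.1 hr]
  simp [pow_eq_zero_of_le (show n ≤ n + 2 by omega) hn]

/-- A natural homomorphism on characters is the evaluation at a point. -/
theorem exists_point0 (hA : QUnits A) (ψ : CharHom A) :
    ∃ t : A, ∀ {B : Type u} [CommRing B] (g : A →+* B) (f : B[X]), IsChar f → ψ.val g f = f.eval (g t) := by
  obtain ⟨U, hU⟩ := exists_univ0 hA ψ 2
  refine ⟨U.coeff 1, fun {B} _ g f hf => ?_⟩
  let ψ' : CharHom A :=
    { val := fun {B} _ g f => ψ.val g f * f.eval (-(g (U.coeff 1)))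
      mul := fun {B} _ g f f' hf hf' => by rw [ψ.mul g f f' hf hf', eval_mul]; ring
      one := fun {B} _ g => by rw [ψ.one, eval_one, mul_one]
      map := fun {B B'} _ _ g φ f hf => by
        rw [ψ.map g φ f hf, RingHom.comp_apply, ← map_neg φ, eval_map_apply, map_mul] }
  have hU0 : U.coeff 0 = 1 := by
    have h := hU (RingHom.id A) 0 (zero_pow two_ne_zero)
    rw [show E0 (hA.map (RingHom.id A)) (0 : A) = 1 from IsChar.eq_of_coeff hA (isChar_E0 _ IsNilpotent.zero)
      isChar_one (by rw [coeff_one_E0 _ IsNilpotent.zero, coeff_one, if_neg one_ne_zero]), ψ.one, eval₂_id,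
      ← coeff_zero_eq_eval_zero] at h
    exact h.symm
  have hψ' : ∀ {B : Type u} [CommRing B] (g : A →+* B) (e : B), e ^ 2 = 0 → ψ'.val g (E0 (hA.map g) e) = 1 :=
    fun {B} _ g e he => by
      show ψ.val g (E0 (hA.map g) e) * (E0 (hA.map g) e).eval (-(g (U.coeff 1))) = 1
      have hl : E0 (hA.map g) e = 1 + C e * X :=
        IsChar.eq_of_coeff (hA.map g) (isChar_E0 _ ⟨2, he⟩) (isChar_linear he) (by
          rw [coeff_one_E0 _ ⟨2, he⟩]; simp [coeff_one])
      rw [hU g e he, eval₂_of_sq' g U he, hU0, map_one, hl, eval_add, eval_one, eval_mul, eval_C, eval_X]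
      linear_combination (-(g (U.coeff 1)) * g (U.coeff 1)) * he
  have hfE : f = E0 (hA.map g) (f.coeff 1) :=
    IsChar.eq_of_coeff (hA.map g) hf (isChar_E0 _ hf.isNilpotent_coeff) (coeff_one_E0 _ hf.isNilpotent_coeff).symm
  have h := eq_one0 hA ψ' @hψ' g hf.isNilpotent_coeff
  rw [← hfE] at h
  change ψ.val g f * f.eval (-(g (U.coeff 1))) = 1 at h
  have h2 := hf.eval_mul_neg (g (U.coeff 1))
  calc ψ.val g f = ψ.val g f * (f.eval (g (U.coeff 1)) * f.eval (-g (U.coeff 1))) := by rw [h2, mul_one]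
    _ = f.eval (g (U.coeff 1)) * (ψ.val g f * f.eval (-g (U.coeff 1))) := by ring
    _ = _ := by rw [h, mul_one]

end Groth.Agent.GaDD
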