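import Groth.Agent.GaDD.Basic
import Groth.Agent.GaDualLib.DualH1
import Mathlib.Algebra.DualNumber

/-!
The double dual of the additive group, from natural homomorphisms on characters.
-/

set_option autoImplicit false
set_option backward.isDefEq.respectTransparency false
set_option backward.isDefEq.respectTransparency.types false
set_option linter.style.haveILetI false
set_option maxHeartbeats 800000

universe u

open CategoryTheory CategoryTheory.Limits AlgebraicGeometry Opposite MonoidalCategory CartesianMonoidalCategory MonObj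

noncomputable section

namespace Groth.Agent.GaDD

open Groth.Agent.GaDualLib

variable {S : Scheme.{u}}

theorem gv_zero {T : Over S} : gv (0 : (gmSh S).obj.obj (op T)) = 1 := by
  have h := gv_add (0 : (gmSh S).obj.obj (op T)) 0
  rw [add_zero] at h
  exact (isUnit_gv (S := S) (0 : (gmSh S).obj.obj (op T))).mul_right_injective (h.symm.trans (_root_.mul_one _).symm)

/-- Pull-back of functions. -/
abbrev top {W U : Over S} (v : W ⟶ U) : Γ(U.left, ⊤) →+* Γ(W.left, ⊤) := v.left.appTop.hom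

theorem top_comp {W V U : Over S} (j : W ⟶ V) (v : V ⟶ U) : top (j ≫ v) = (top j).comp (top v) := by
  simp [top]

theorem isUnit_eval₂ {U W : Over S} {f : Polynomial Γ(U.left, ⊤)} (hf : IsChar f) (v : W ⟶ U) (x : W ⟶ Red.Ga S) :
    IsUnit (f.eval₂ (top v) (Red.gaFn x)) := by
  refine IsUnit.of_mul_eq_one _ ((hf.add _ (top v) (Red.gaFn x) (- Red.gaFn x)).symm.trans ?_)
  rw [add_neg_cancel, ← map_zero (top v), Polynomial.eval₂_at_apply, hf.zero, map_one]

theorem exists_valK {U W : Over S} {f : Polynomial Γ(U.left, ⊤)} (hf : IsChar f) (v : W ⟶ U) (x : W ⟶ Red.Ga S) :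
    ∃ s : (gmSh S).obj.obj (op W), gv s = f.eval₂ (top v) (Red.gaFn x) :=
  exists_gv (isUnit_eval₂ hf v x)

/-- The value of the character of a polynomial. -/
def valK {U W : Over S} {f : Polynomial Γ(U.left, ⊤)} (hf : IsChar f) (v : W ⟶ U) (x : W ⟶ Red.Ga S) :
    (gmSh S).obj.obj (op W) :=
  (exists_valK hf v x).choose

theorem gv_valK {U W : Over S} {f : Polynomial Γ(U.left, ⊤)} (hf : IsChar f) (v : W ⟶ U) (x : W ⟶ Red.Ga S) :
    gv (valK hf v x) = f.eval₂ (top v) (Red.gaFn x) :=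
  (exists_valK hf v x).choose_spec

theorem valK_map {U : Over S} {f : Polynomial Γ(U.left, ⊤)} (hf : IsChar f) {W W' : Over S} (j : W' ⟶ W) (v : W ⟶ U)
    (x : W ⟶ Red.Ga S) : (gmSh S).obj.map j.op (valK hf v x) = valK hf (j ≫ v) (j ≫ x) :=
  gv_injective (by
    rw [gv_map, gv_valK, gv_valK, top_comp, GaPoints.gaFn_comp]
    exact Polynomial.hom_eval₂ f (top v) (top j) (Red.gaFn x))

theorem valK_add {U : Over S} {f : Polynomial Γ(U.left, ⊤)} (hf : IsChar f) {W : Over S} (v : W ⟶ U)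
    (x y : W ⟶ Red.Ga S) : valK hf v (x * y) = valK hf v x + valK hf v y :=
  gv_injective (by rw [gv_add, gv_valK, gv_valK, gv_valK, GaPoints.gaFn_mul, hf.add _ (top v)])

/-- The character of a polynomial. -/
def mkChar {U : Over S} (f : Polynomial Γ(U.left, ⊤)) (hf : IsChar f) : (dualGa S).obj.obj (op U) :=
  mkD (fun {W} v x => valK hf v x) (fun {W W'} j v x => valK_map hf j v x) (fun {W} v x y => valK_add hf v x y)

theorem gv_evD_mkChar {U W : Over S} (f : Polynomial Γ(U.left, ⊤)) (hf : IsChar f) (j : W ⟶ U) (x : W ⟶ Red.Ga S) :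
    gv (evD ((dualGa S).obj.map j.op (mkChar f hf)) x) = f.eval₂ (top j) (Red.gaFn x) :=
  (congrArg gv (evD_mkD (fun {W} v x => valK hf v x) (fun {W W'} j v x => valK_map hf j v x)
    (fun {W} v x y => valK_add hf v x y) j x)).trans (gv_valK hf j x)

theorem map_map_dual {U V W : Over S} (j : W ⟶ V) (k : V ⟶ U) (χ : (dualGa S).obj.obj (op U)) :
    (dualGa S).obj.map j.op ((dualGa S).obj.map k.op χ) = (dualGa S).obj.map (j ≫ k).op χ := by
  rw [op_comp, Functor.map_comp]; rfl

theorem ext_mkChar {U : Over S} {χ : (dualGa S).obj.obj (op U)} {f : Polynomial Γ(U.left, ⊤)} (hf : IsChar f)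
    (h : ∀ {W : Over S} (v : W ⟶ U) (x : W ⟶ Red.Ga S),
      gv (evD ((dualGa S).obj.map v.op χ) x) = f.eval₂ (top v) (Red.gaFn x)) : χ = mkChar f hf :=
  evD_ext fun v x => gv_injective ((h v x).trans (gv_evD_mkChar f hf v x).symm)

theorem map_mkChar {U V : Over S} (k : V ⟶ U) (f : Polynomial Γ(U.left, ⊤)) (hf : IsChar f) :
    (dualGa S).obj.map k.op (mkChar f hf) = mkChar (f.map (top k)) (hf.map _) :=
  ext_mkChar _ fun v x => by
    rw [map_map_dual, gv_evD_mkChar, Polynomial.eval₂_map, top_comp]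

theorem mkChar_mul {U : Over S} (f f' : Polynomial Γ(U.left, ⊤)) (hf : IsChar f) (hf' : IsChar f') :
    mkChar f hf + mkChar f' hf' = mkChar (f * f') (hf.mul hf') :=
  ext_mkChar _ fun v x => by
    rw [show (dualGa S).obj.map v.op (mkChar f hf + mkChar f' hf') =
        (dualGa S).obj.map v.op (mkChar f hf) + (dualGa S).obj.map v.op (mkChar f' hf') from map_add _ _ _,
      evD_add, gv_add, gv_evD_mkChar, gv_evD_mkChar, Polynomial.eval₂_mul]

theorem mkChar_one {U : Over S} : mkChar (U := U) 1 isChar_one = 0 :=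
  (ext_mkChar (χ := 0) isChar_one fun v x => by
    rw [show (dualGa S).obj.map v.op (0 : (dualGa S).obj.obj (op _)) = 0 from map_zero _, Polynomial.eval₂_one]
    exact gv_zero).symm

section Affine

variable (U : Over S) [IsAffine U.left]

/-- The affine object of an algebra over the functions. -/
abbrev aff {B : Type u} [CommRing B] (g : Γ(U.left, ⊤) →+* B) : Over S :=
  Over.mk (Spec.map (CommRingCat.ofHom g) ≫ U.left.isoSpec.inv ≫ U.hom)

/-- Its structure morphism. -/
abbrev affπ {B : Type u} [CommRing B] (g : Γ(U.left, ⊤) →+* B) : aff U g ⟶ U :=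
  Over.homMk (Spec.map (CommRingCat.ofHom g) ≫ U.left.isoSpec.inv) (by simp)

/-- The identification of functions. -/
abbrev eB (B : Type u) [CommRing B] : Γ(Spec (CommRingCat.of B), ⊤) ≃+* B :=
  (Scheme.ΓSpecIso (CommRingCat.of B)).commRingCatIsoToRingEquiv

theorem eB_SpecMap {B B' : Type u} [CommRing B] [CommRing B'] (φ : B →+* B') (r : Γ(Spec (CommRingCat.of B), ⊤)) :
    eB B' ((Spec.map (CommRingCat.ofHom φ)).appTop r) = φ (eB B r) :=
  congrArg (fun h => h.hom r) (Scheme.ΓSpecIso_naturality (CommRingCat.ofHom φ))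

theorem eB_affπ {B : Type u} [CommRing B] (g : Γ(U.left, ⊤) →+* B) (r : Γ(U.left, ⊤)) :
    eB B (top (affπ U g) r) = g r := by
  show eB B ((Spec.map (CommRingCat.ofHom g) ≫ U.left.isoSpec.inv).appTop r) = _
  rw [Scheme.Hom.comp_appTop]
  refine (eB_SpecMap g _).trans (congrArg g ?_)
  have h : U.left.isoSpec.inv.appTop ≫ (Scheme.ΓSpecIso Γ(U.left, ⊤)).hom = 𝟙 _ := by
    rw [← Scheme.toSpecΓ_appTop, ← Scheme.isoSpec_hom, ← Scheme.Hom.comp_appTop, Iso.hom_inv_id, Scheme.Hom.id_appTop]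
  exact congrArg (fun h => h.hom r) h

/-- Every character on an affine scheme is given by a polynomial. -/
theorem exists_poly (χ : (dualGa S).obj.obj (op U)) :
    ∃ (f : Polynomial Γ(U.left, ⊤)) (hf : IsChar f), χ = mkChar f hf := by
  obtain ⟨xu, hxu⟩ := GaPoints.gaFn_surjective (X := aff U (Polynomial.C : Γ(U.left, ⊤) →+* _))
    ((eB _).symm Polynomial.X)
  let f : Polynomial Γ(U.left, ⊤) := eB _ (gv (evD ((dualGa S).obj.map (affπ U Polynomial.C).op χ) xu))
  have key : ∀ {W : Over S} (v : W ⟶ U) (x : W ⟶ Red.Ga S),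
      gv (evD ((dualGa S).obj.map v.op χ) x) = f.eval₂ (top v) (Red.gaFn x) := by
    intro W v x
    obtain ⟨q, hq⟩ := GaPoints.exists_ringMap (Y := W.left) (R := CommRingCat.of (Polynomial Γ(U.left, ⊤)))
      (Polynomial.eval₂RingHom (top v) (Red.gaFn x))
    have hq' : ∀ r, q.appTop r = Polynomial.eval₂RingHom (top v) (Red.gaFn x) (eB _ r) := fun r => by
      rw [← hq]
      show _ = q.appTop ((eB _).symm (eB _ r))
      rw [RingEquiv.symm_apply_apply]
    have hv : q ≫ (affπ U (Polynomial.C : Γ(U.left, ⊤) →+* _)).left = v.left := by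
      refine ext_of_isAffine (CommRingCat.hom_ext (RingHom.ext fun r => ?_))
      rw [Scheme.Hom.comp_appTop]
      refine (hq' _).trans ?_
      exact (congrArg _ (eB_affπ U Polynomial.C r)).trans (Polynomial.eval₂_C _ _)
    let h : W ⟶ aff U (Polynomial.C : Γ(U.left, ⊤) →+* _) := Over.homMk q (by
      have h2 := congrArg (· ≫ U.hom) hv
      simp only [Category.assoc] at h2
      rw [Over.w v] at h2
      exact h2)
    have hv' : h ≫ affπ U Polynomial.C = v := Over.OverMorphism.ext hv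
    have hx : h ≫ xu = x := GaPoints.gaFn_injective (by
      rw [GaPoints.gaFn_comp, hxu]
      show q.appTop _ = _
      rw [hq', RingEquiv.apply_symm_apply, Polynomial.coe_eval₂RingHom, Polynomial.eval₂_X])
    rw [← hv', ← hx, ← map_map_dual, evD_map, gv_map, hx, hv']
    exact hq' _
  have h0 : f.eval 0 = 1 := by
    have := key (𝟙 U) 1
    rw [evD_one, gv_zero, GaPoints.gaFn_one] at this
    rw [← Polynomial.coeff_zero_eq_eval_zero]
    simpa [top] using this.symm
  have hf : IsChar f := ⟨h0, fun B _ g x y => by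
    obtain ⟨x', hx'⟩ := GaPoints.gaFn_surjective (X := aff U g) ((eB B).symm x)
    obtain ⟨y', hy'⟩ := GaPoints.gaFn_surjective (X := aff U g) ((eB B).symm y)
    have e : ∀ z : Γ((aff U g).left, ⊤), eB B (f.eval₂ (top (affπ U g)) z) = f.eval₂ g (eB B z) := fun z => by
      refine (Polynomial.hom_eval₂ f (top (affπ U g)) (eB B).toRingHom z).trans ?_
      congr 1
      exact RingHom.ext (eB_affπ U g)
    have h := congrArg gv (evD_mul ((dualGa S).obj.map (affπ U g).op χ) x' y')
    rw [gv_add, key, key, key, GaPoints.gaFn_mul, hx', hy'] at h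
    have h' := congrArg (eB B) h
    rw [map_mul, e, e, e, map_add, RingEquiv.apply_symm_apply, RingEquiv.apply_symm_apply] at h'
    exact h'⟩
  exact ⟨f, hf, ext_mkChar hf @key⟩

end Affine

/-- The value of a section of the double dual. -/
def appDD {T : Over S} (Φ : (dualGa S).over T ⟶ (gmSh S).over T) {V : Over S} (v : V ⟶ T)
    (χ : (dualGa S).obj.obj (op V)) : (gmSh S).obj.obj (op V) :=
  Φ.hom.app (op (Over.mk v)) χ

theorem appDD_map {T : Over S} (Φ : (dualGa S).over T ⟶ (gmSh S).over T) {V V' : Over S} (j : V' ⟶ V) (v : V ⟶ T)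
    (χ : (dualGa S).obj.obj (op V)) :
    (gmSh S).obj.map j.op (appDD Φ v χ) = appDD Φ (j ≫ v) ((dualGa S).obj.map j.op χ) :=
  (NatTrans.naturality_apply Φ.hom (Over.homMk j rfl : Over.mk (j ≫ v) ⟶ Over.mk v).op χ).symm

theorem appDD_add {T : Over S} (Φ : (dualGa S).over T ⟶ (gmSh S).over T) {V : Over S} (v : V ⟶ T)
    (χ χ' : (dualGa S).obj.obj (op V)) : appDD Φ v (χ + χ') = appDD Φ v χ + appDD Φ v χ' :=
  map_add _ _ _

theorem appDD_zero {T : Over S} (Φ : (dualGa S).over T ⟶ (gmSh S).over T) {V : Over S} (v : V ⟶ T) :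
    appDD Φ v (0 : (dualGa S).obj.obj (op V)) = 0 :=
  map_zero _

/-- `Φ` is the evaluation at a point on an object over the base. -/
def IsEvalAt {T : Over S} (Φ : (dualGa S).over T ⟶ (gmSh S).over T) {V : Over S} (v : V ⟶ T) (x : V ⟶ Red.Ga S) :
    Prop :=
  ∀ {W : Over S} (j : W ⟶ V) (χ : (dualGa S).obj.obj (op W)), appDD Φ (j ≫ v) χ = evD χ (j ≫ x)

theorem IsEvalAt.precomp {T : Over S} {Φ : (dualGa S).over T ⟶ (gmSh S).over T} {V V' : Over S} {v : V ⟶ T}
    {x : V ⟶ Red.Ga S} (h : IsEvalAt Φ v x) (k : V' ⟶ V) : IsEvalAt Φ (k ≫ v) (k ≫ x) := fun {W} j χ => by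
  rw [← Category.assoc, ← Category.assoc]; exact h (j ≫ k) χ

/-- An open cover with affine members, seen over the base. -/
theorem hom_ext_affine {V : Over S} {Y : Over S} {a b : V ⟶ Y}
    (h : ∀ i, (Over.homMk (V.left.affineCover.f i) rfl :
      Over.mk (V.left.affineCover.f i ≫ V.hom) ⟶ V) ≫ a = Over.homMk (V.left.affineCover.f i) rfl ≫ b) : a = b :=
  Over.OverMorphism.ext (Scheme.Cover.hom_ext V.left.affineCover _ _ fun i =>
    congrArg (fun m => m.left) (h i))

theorem IsEvalAt.unique {T : Over S} {Φ : (dualGa S).over T ⟶ (gmSh S).over T} {V : Over S} {v : V ⟶ T}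
    {x x' : V ⟶ Red.Ga S} (h : IsEvalAt Φ v x) (h' : IsEvalAt Φ v x') : x = x' := by
  refine hom_ext_affine fun i => ?_
  set U : Over S := Over.mk (V.left.affineCover.f i ≫ V.hom)
  set k : U ⟶ V := Over.homMk (V.left.affineCover.f i) rfl
  haveI : IsAffine U.left := inferInstanceAs (IsAffine (V.left.affineCover.X i))
  let B := DualNumber Γ(U.left, ⊤)
  let g : Γ(U.left, ⊤) →+* B := TrivSqZeroExt.inlHom _ _
  have he : (DualNumber.eps : B) ^ 2 = 0 := by rw [pow_two, DualNumber.eps_mul_eps]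
  let f : Polynomial Γ((aff U g).left, ⊤) :=
    (1 + Polynomial.C (DualNumber.eps : B) * Polynomial.X).map (eB B).symm.toRingHom
  let χ := mkChar f ((isChar_linear he).map _)
  have e : ∀ z : U ⟶ Red.Ga S, eB B (gv (evD χ (affπ U g ≫ z))) =
      1 + DualNumber.eps * g (Red.gaFn z) := fun z => by
    have h1 := gv_evD_mkChar f ((isChar_linear he).map _) (𝟙 (aff U g)) (affπ U g ≫ z)
    rw [op_id, CategoryTheory.Functor.map_id] at h1
    rw [show gv (evD χ (affπ U g ≫ z)) = _ from h1, GaPoints.gaFn_comp]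
    have hid : top (𝟙 (aff U g)) = RingHom.id _ := by simp [top]
    rw [hid, Polynomial.eval₂_id]
    simp only [f, Polynomial.eval_map, Polynomial.eval₂_add, Polynomial.eval₂_one, Polynomial.eval₂_mul,
      Polynomial.eval₂_C, Polynomial.eval₂_X, map_add, map_one, map_mul]
    exact congrArg (1 + ·) (congrArg₂ (· * ·) ((congrArg (eB B) (Polynomial.eval₂_C _ _)).trans ((eB B).apply_symm_apply DualNumber.eps)) (eB_affπ U g (Red.gaFn z)))
  have h1 := (h (affπ U g ≫ k) χ).symm.trans (h' (affπ U g ≫ k) χ)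
  rw [Category.assoc, Category.assoc] at h1
  have h2 := congrArg (fun s => eB B (gv s)) h1
  rw [e, e] at h2
  refine GaPoints.gaFn_injective ?_
  have h3 := congrArg TrivSqZeroExt.snd (add_left_cancel h2)
  change TrivSqZeroExt.snd ((TrivSqZeroExt.inr 1 : TrivSqZeroExt Γ(U.left, ⊤) Γ(U.left, ⊤)) * TrivSqZeroExt.inl (Red.gaFn (k ≫ x))) =
    TrivSqZeroExt.snd ((TrivSqZeroExt.inr 1 : TrivSqZeroExt Γ(U.left, ⊤) Γ(U.left, ⊤)) * TrivSqZeroExt.inl (Red.gaFn (k ≫ x'))) at h3
  simpa only [TrivSqZeroExt.inr_mul_inl, TrivSqZeroExt.snd_inr, op_smul_eq_mul, MulOpposite.smul_eq_mul_unop, MulOpposite.unop_op, _root_.one_mul] using h3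

/-- The property of a base ring. -/
def PointProp (A : Type u) [CommRing A] : Prop :=
  ∀ ψ : CharHom A, ∃ t : A, ∀ {B : Type u} [CommRing B] (g : A →+* B) (f : Polynomial B), IsChar f →
    ψ.val g f = f.eval (g t)

section CharHom

variable {T : Over S} (Φ : (dualGa S).over T ⟶ (gmSh S).over T) (U : Over S) [IsAffine U.left] (u₀ : U ⟶ T)

open Classical in
/-- The natural homomorphism of a section of the double dual. -/
def homOf : CharHom Γ(U.left, ⊤) where
  val {B} _ g f :=
    if hf : IsChar f then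
      eB B (gv (appDD Φ (affπ U g ≫ u₀) (mkChar (f.map (eB B).symm.toRingHom) (hf.map _))))
    else 0
  mul {B} _ g f f' hf hf' := by
    simp only [dif_pos hf, dif_pos hf', dif_pos (hf.mul hf')]
    rw [← map_mul, ← gv_add, ← appDD_add, mkChar_mul]
    congr 4
    exact Polynomial.map_mul _
  one {B} _ g := by
    simp only [dif_pos (isChar_one (A := B))]
    have : mkChar (U := aff U g) ((1 : Polynomial B).map (eB B).symm.toRingHom) (isChar_one.map _) = 0 := by
      rw [← mkChar_one]; congr 1; exact Polynomial.map_one _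
    rw [this, appDD_zero, gv_zero, map_one]
  map {B B'} _ _ g φ f hf := by
    simp only [dif_pos hf, dif_pos (hf.map φ)]
    let j : aff U (φ.comp g) ⟶ aff U g := Over.homMk (Spec.map (CommRingCat.ofHom φ)) (by
      show Spec.map _ ≫ Spec.map _ ≫ _ = Spec.map _ ≫ _
      rw [← Category.assoc, ← Spec.map_comp]; rfl)
    have hj : j ≫ affπ U g = affπ U (φ.comp g) := Over.OverMorphism.ext (by
      show Spec.map _ ≫ Spec.map _ ≫ _ = Spec.map _ ≫ _
      rw [← Category.assoc, ← Spec.map_comp]; rfl)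
    rw [← eB_SpecMap φ]
    congr 1
    show _ = top j (gv (appDD Φ (affπ U g ≫ u₀) _))
    rw [← gv_map, appDD_map, reassoc_of% hj, map_mkChar]
    congr 3
    rw [Polynomial.map_map, Polynomial.map_map]
    congr 1
    refine RingHom.ext fun r => (eB B').injective ?_
    rw [RingHom.comp_apply, RingHom.comp_apply]
    show eB B' ((eB B').symm (φ r)) = eB B' ((Spec.map (CommRingCat.ofHom φ)).appTop ((eB B).symm r))
    rw [eB_SpecMap, RingEquiv.apply_symm_apply, RingEquiv.apply_symm_apply]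

theorem exists_isEvalAt (hP : PointProp Γ(U.left, ⊤)) : ∃ x : U ⟶ Red.Ga S, IsEvalAt Φ u₀ x := by
  obtain ⟨t, ht⟩ := hP (homOf Φ U u₀)
  obtain ⟨x, hx⟩ := GaPoints.gaFn_surjective (X := U) t
  refine ⟨x, fun {W₀} j₀ χ₀ => ?_⟩
  -- reduce to affine objects
  refine ULift.ext _ _ (Additive.toMul.injective (hom_ext_affine fun i => ?_))
  set W : Over S := Over.mk (W₀.left.affineCover.f i ≫ W₀.hom)
  set k : W ⟶ W₀ := Over.homMk (W₀.left.affineCover.f i) rfl
  haveI : IsAffine W.left := inferInstanceAs (IsAffine (W₀.left.affineCover.X i))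
  suffices hk : (gmSh S).obj.map k.op (appDD Φ (j₀ ≫ u₀) χ₀) = (gmSh S).obj.map k.op (evD χ₀ (j₀ ≫ x)) from
    congrArg (fun s => s.down.toMul) hk
  rw [appDD_map, ← evD_map, ← Category.assoc, ← Category.assoc]
  set j := k ≫ j₀
  obtain ⟨f, hf, hχ⟩ := exists_poly W ((dualGa S).obj.map k.op χ₀)
  rw [hχ]
  let g : Γ(U.left, ⊤) →+* Γ(W.left, ⊤) := top j
  have hqi : W.left.toSpecΓ ≫ (affπ U g).left = j.left := by
    show W.left.toSpecΓ ≫ Spec.map (j.left.appTop) ≫ U.left.isoSpec.inv = _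
    rw [← Category.assoc, ← Scheme.toSpecΓ_naturality, Category.assoc, ← Scheme.isoSpec_hom, Iso.hom_inv_id,
      Category.comp_id]
  let m : W ⟶ aff U g := Over.homMk W.left.toSpecΓ (by
    have h2 := congrArg (· ≫ U.hom) hqi
    simp only [Category.assoc] at h2
    rw [Over.w j] at h2
    exact h2)
  have hm : m ≫ affπ U g = j := Over.OverMorphism.ext hqi
  have hmtop : ∀ r, top m ((eB Γ(W.left, ⊤)).symm r) = r := fun r => by
    show W.left.toSpecΓ.appTop ((Scheme.ΓSpecIso Γ(W.left, ⊤)).inv r) = r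
    rw [Scheme.toSpecΓ_appTop]
    exact congrArg (fun h => h.hom r) (Scheme.ΓSpecIso Γ(W.left, ⊤)).inv_hom_id
  have hf' : (dualGa S).obj.map m.op (mkChar (f.map (eB Γ(W.left, ⊤)).symm.toRingHom) (hf.map _)) = mkChar f hf := by
    rw [map_mkChar]
    congr 1
    rw [Polynomial.map_map]
    conv_rhs => rw [← Polynomial.map_id (p := f)]
    congr 1
    exact RingHom.ext hmtop
  apply gv_injective
  rw [← hf', ← hm, Category.assoc, ← appDD_map, gv_map]
  have h1 := ht g f hf
  simp only [homOf, dif_pos hf] at h1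
  have h2 := (eB Γ(W.left, ⊤)).eq_symm_apply.2 h1
  rw [show gv (appDD Φ (affπ U g ≫ u₀) (mkChar (f.map (eB Γ(W.left, ⊤)).symm.toRingHom) (hf.map _))) = _ from h2]
  refine (hmtop _).trans ?_
  rw [hf', hm]
  have h3 := gv_evD_mkChar f hf (𝟙 W) (j ≫ x)
  rw [op_id, CategoryTheory.Functor.map_id] at h3
  refine Eq.trans ?_ h3.symm
  rw [GaPoints.gaFn_comp, hx, ← Polynomial.eval₂_id]
  rfl

end CharHom

theorem isIso_toDoubleDual (X : Scheme.{u})
    (hP : ∀ (U : Over X), IsAffine U.left → PointProp Γ(U.left, ⊤)) :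
    IsIso (CGrpSh2.toDoubleDual Scheme.fppfPrecoverage (CGrpSh2.Ga Scheme.fppfPrecoverage X)) := by
  rw [← isIso_iff_of_reflects_iso _ (sheafToPresheaf _ _)]
  refine @NatIso.isIso_of_isIso_app _ _ _ _ _ _ _ fun T => ?_
  obtain ⟨T⟩ := T
  rw [ConcreteCategory.isIso_iff_bijective]
  have hev : ∀ (s : T ⟶ Red.Ga X) {V : Over X} (v : V ⟶ T) (χ : (dualGa X).obj.obj (op V)),
      appDD ((CGrpSh2.toDoubleDual Scheme.fppfPrecoverage (gaSh X)).hom.app (op T) (gaPt s)) v χ = evD χ (v ≫ s) :=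
    fun s V v χ => rfl
  constructor
  · intro s s' h
    refine ULift.ext _ _ (Additive.toMul.injective (IsEvalAt.unique
      (Φ := ((CGrpSh2.toDoubleDual Scheme.fppfPrecoverage (gaSh X)).hom.app (op T) s)) (v := 𝟙 T) ?_ ?_))
    · intro W j χ
      rw [Category.comp_id]
      exact hev s.down.toMul j χ
    · intro W j χ
      rw [Category.comp_id]
      exact (congrArg (fun Φ => appDD Φ j χ) h).trans (hev s'.down.toMul j χ)
  · intro Φ
    let 𝒰 := T.left.affineCover
    let V : 𝒰.I₀ → Over X := fun i => Over.mk (𝒰.f i ≫ T.hom)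
    let k : ∀ i, V i ⟶ T := fun i => Over.homMk (𝒰.f i) rfl
    haveI : ∀ i, IsAffine (V i).left := fun i => inferInstanceAs (IsAffine (T.left.affineCover.X i))
    choose x hx using fun i => exists_isEvalAt Φ (V i) (k i) (hP (V i) inferInstance)
    obtain ⟨xl, hxl⟩ : ∃ xl : T.left ⟶ (Red.Ga X).left, ∀ i, 𝒰.f i ≫ xl = (x i).left := by
     refine ⟨Scheme.Cover.glueMorphisms 𝒰 (fun i => (x i).left) ?_, Scheme.Cover.ι_glueMorphisms 𝒰 _ _⟩
     exact (fun i i' => by
      let P : Over X := Over.mk (pullback.fst (𝒰.f i) (𝒰.f i') ≫ (V i).hom)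
      let p₁ : P ⟶ V i := Over.homMk (pullback.fst (𝒰.f i) (𝒰.f i')) rfl
      let p₂ : P ⟶ V i' := Over.homMk (pullback.snd (𝒰.f i) (𝒰.f i')) (by
        show pullback.snd _ _ ≫ 𝒰.f i' ≫ T.hom = pullback.fst _ _ ≫ 𝒰.f i ≫ T.hom
        rw [pullback.condition_assoc])
      have hp : p₁ ≫ k i = p₂ ≫ k i' := Over.OverMorphism.ext pullback.condition
      have h2 : IsEvalAt Φ (p₁ ≫ k i) (p₂ ≫ x i') := by
        rw [hp]; exact IsEvalAt.precomp (hx i') p₂
      exact congrArg (fun m : P ⟶ Red.Ga X => m.left) (IsEvalAt.unique (IsEvalAt.precomp (hx i) p₁) h2))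
    let s : T ⟶ Red.Ga X := Over.homMk xl (Scheme.Cover.hom_ext 𝒰 _ _ fun i => by
      exact (Category.assoc _ _ _).symm.trans ((congrArg (· ≫ (Red.Ga X).hom) (hxl i)).trans (Over.w (x i))))
    have hs : ∀ i, k i ≫ s = x i := fun i => Over.OverMorphism.ext (hxl i)
    refine ⟨gaPt s, ?_⟩
    apply Sheaf.hom_ext
    refine NatTrans.ext (funext fun W => AddCommGrpCat.ext fun χ => ?_)
    obtain ⟨W, ⟨⟩, w⟩ := W
    change W ⟶ T at w
    show appDD ((CGrpSh2.toDoubleDual Scheme.fppfPrecoverage (gaSh X)).hom.app (op T) (gaPt s)) w χ = appDD Φ w χ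
    rw [hev]
    refine ULift.ext _ _ (Additive.toMul.injective (Over.OverMorphism.ext ?_))
    refine Scheme.Cover.hom_ext (Precoverage.ZeroHypercover.pullback₁ w.left 𝒰) _ _ fun i => ?_
    let W' : Over X := Over.mk (pullback.fst w.left (𝒰.f i) ≫ W.hom)
    let a : W' ⟶ W := Over.homMk (pullback.fst w.left (𝒰.f i)) rfl
    let b : W' ⟶ V i := Over.homMk (pullback.snd w.left (𝒰.f i)) (by
      show pullback.snd _ _ ≫ 𝒰.f i ≫ T.hom = pullback.fst _ _ ≫ W.hom
      rw [← pullback.condition_assoc, Over.w w])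
    have hab : a ≫ w = b ≫ k i := Over.OverMorphism.ext pullback.condition
    have h1 : (gmSh X).obj.map a.op (evD χ (w ≫ s)) = (gmSh X).obj.map a.op (appDD Φ w χ) := by
      rw [← evD_map, appDD_map, ← Category.assoc, hab, hx i b, Category.assoc, hs]
    exact congrArg (fun m => m.down.toMul.left) h1

end Groth.Agent.GaDD
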