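import Groth.Agent.GaDD.CharP

/-!
A natural homomorphism on characters in characteristic `p` is the evaluation at a point.
-/

set_option autoImplicit false
set_option backward.isDefEq.respectTransparency false

universe u

open Polynomial Finset

noncomputable section

namespace Groth.Agent.GaDD

variable (p : ℕ) [hp : Fact p.Prime] {A : Type u} [CommRing A] (hA : (p : A) = 0)
include hA

omit hp in
theorem cast_eq_zero {B : Type u} [CommRing B] (g : A →+* B) : (p : B) = 0 := by
  rw [← map_natCast g, hA, map_zero]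

/-- The universal value on truncated exponentials. -/
theorem exists_univ (ψ : CharHom A) :
    ∃ U : A[X], U.natDegree < p ∧ U.coeff 0 = 1 ∧
      ∀ {B : Type u} [CommRing B] (g : A →+* B) (a : B), a ^ p = 0 → ψ.val g (E p a) = U.eval₂ g a := by
  let I : Ideal A[X] := Ideal.span {(X : A[X]) ^ p}
  let q : A[X] →+* A[X] ⧸ I := Ideal.Quotient.mk I
  let g₀ : A →+* A[X] ⧸ I := q.comp C
  have hB₀ : (p : A[X] ⧸ I) = 0 := cast_eq_zero p hA g₀
  have ha₀ : (q X) ^ p = 0 := by
    rw [← map_pow, Ideal.Quotient.eq_zero_iff_mem]; exact Ideal.mem_span_singleton_self _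
  obtain ⟨U₀, hU₀⟩ := Ideal.Quotient.mk_surjective (ψ.val g₀ (E p (q X)))
  refine ⟨U₀ %ₘ X ^ p, ?_, ?_⟩
  · rcases subsingleton_or_nontrivial A with hs | hnt
    · rw [Subsingleton.elim (U₀ %ₘ X ^ p) 0, natDegree_zero]; exact hp.out.pos
    have := natDegree_modByMonic_lt U₀ (monic_X_pow p) (fun h => by
      have h2 := congrArg natDegree h
      rw [natDegree_X_pow, natDegree_one] at h2
      exact hp.out.ne_zero h2)
    rwa [natDegree_X_pow] at this
  · have key : ∀ {B : Type u} [CommRing B] (g : A →+* B) (a : B), a ^ p = 0 →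
        ψ.val g (E p a) = (U₀ %ₘ X ^ p).eval₂ g a := fun {B} _ g a ha => by
      let φ : A[X] ⧸ I →+* B := Ideal.Quotient.lift I (eval₂RingHom g a) fun r hr => by
        obtain ⟨s, rfl⟩ := Ideal.mem_span_singleton.1 hr
        simp [ha]
      have hg : φ.comp g₀ = g := RingHom.ext fun r => eval₂_C g a
      have hm := ψ.map g₀ φ (E p (q X)) (isChar_E p hB₀ ha₀)
      rw [map_E, hg, show φ (q X) = a from eval₂_X g a, ← hU₀] at hm
      refine hm.trans ?_
      show U₀.eval₂ g a = _
      conv_lhs => rw [← modByMonic_add_div U₀ (X ^ p)]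
      simp [ha]
    refine ⟨?_, @key⟩
    have h0 := key (RingHom.id A) 0 (zero_pow hp.out.ne_zero)
    rw [E_zero p hA, ψ.one, eval₂_id, ← coeff_zero_eq_eval_zero] at h0
    exact h0.symm

/-- Restriction to characters in `p`-th powers. -/
def frobHom (ψ : CharHom A) (hexp : ∀ {B : Type u} [CommRing B], (A →+* B) → ∀ f : B[X], IsChar f → IsChar (expand B p f)) :
    CharHom A where
  val g f := ψ.val g (expand _ p f)
  mul g f f' hf hf' := by rw [map_mul, ψ.mul g _ _ (hexp g f hf) (hexp g f' hf')]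
  one g := by rw [map_one, ψ.one]
  map g φ f hf := by rw [← Polynomial.map_expand, ψ.map g φ _ (hexp g f hf)]

theorem isChar_expand {B : Type u} [CommRing B] (g : A →+* B) (f : B[X]) (hf : IsChar f) : IsChar (expand B p f) := by
  refine ⟨by rw [expand_eval, zero_pow hp.out.ne_zero, hf.zero], fun B' _ h x y => ?_⟩
  rw [expand_eq_comp_X_pow, eval₂_comp, eval₂_comp, eval₂_comp, eval₂_X_pow, eval₂_X_pow, eval₂_X_pow]
  by_cases hnt : Nontrivial B'
  · have : CharP B' p := (CharP.charP_iff_prime_eq_zero hp.out).2 (cast_eq_zero p hA (h.comp g))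
    have : ExpChar B' p := ExpChar.prime hp.out
    rw [add_pow_expChar]
    exact hf.add B' h _ _
  · have : Subsingleton B' := not_nontrivial_iff_subsingleton.1 hnt
    exact Subsingleton.elim _ _

omit hp hA in
theorem eval₂_of_sq {B : Type u} [CommRing B] (g : A →+* B) (U : A[X]) {e : B} (he : e ^ 2 = 0) :
    U.eval₂ g e = g (U.coeff 0) + g (U.coeff 1) * e := by
  have h := eval_add_of_sq_eq_zero (U.map g) 0 e he
  rw [zero_add, ← coeff_zero_eq_eval_zero, ← coeff_zero_eq_eval_zero, derivative_map, coeff_map, coeff_map,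
    coeff_derivative, eval_map] at h
  simpa using h

omit hp hA in
theorem dual_eps_sq {B : Type u} [CommRing B] : (DualNumber.eps : DualNumber B) ^ 2 = 0 := by
  rw [pow_two, DualNumber.eps_mul_eps]

omit hp in
theorem add_pow_of_cast {B : Type u} [CommRing B] [Fact p.Prime] (hB : (p : B) = 0) (a b : B) :
    (a + b) ^ p = a ^ p + b ^ p := by
  rcases subsingleton_or_nontrivial B with hs | hnt
  · exact Subsingleton.elim _ _
  have : CharP B p := (CharP.charP_iff_prime_eq_zero Fact.out).2 hB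
  have : ExpChar B p := ExpChar.prime Fact.out
  exact add_pow_expChar a b p

omit hp hA in
theorem snd_inl_mul_eps {B : Type u} [CommRing B] (x : B) :
    TrivSqZeroExt.snd (TrivSqZeroExt.inlHom B B x * (DualNumber.eps : DualNumber B)) = x := by
  show TrivSqZeroExt.snd ((TrivSqZeroExt.inl x : TrivSqZeroExt B B) * TrivSqZeroExt.inr 1) = x
  rw [TrivSqZeroExt.inl_mul_inr, TrivSqZeroExt.snd_inr, smul_eq_mul, mul_one]

/-- The relation between the universal values. -/
theorem core_eq (ψ : CharHom A) (U V : A[X]) (h0 : U.coeff 0 = 1) (h1 : U.coeff 1 = 0)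
    (hU : ∀ {B : Type u} [CommRing B] (g : A →+* B) (a : B), a ^ p = 0 → ψ.val g (E p a) = U.eval₂ g a)
    (hV0 : V.coeff 0 = 1)
    (hV : ∀ {B : Type u} [CommRing B] (g : A →+* B) (a : B), a ^ p = 0 →
      ψ.val g (expand B p (E p a)) = V.eval₂ g a)
    {B : Type u} [CommRing B] (g : A →+* B) (a b : B) (ha : a ^ p = 0) (hb : b ^ 2 = 0) :
    ((derivative U).eval₂ g a + U.eval₂ g a * (g (V.coeff 1 * cc p A (p - 1)) * a ^ (p - 1))) * b = 0 := by
  have hB : (p : B) = 0 := cast_eq_zero p hA g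
  have hbp : b ^ p = 0 := pow_eq_zero_of_le hp.out.two_le hb
  have hab : (a + b) ^ p = 0 := by rw [add_pow_of_cast p hA hB, ha, hbp, add_zero]
  set κ := cc p B (p - 1) * a ^ (p - 1) * b with hκdef
  have hκ : κ ^ 2 = 0 := by rw [hκdef, mul_pow, hb, mul_zero]
  have hκp : κ ^ p = 0 := pow_eq_zero_of_le hp.out.two_le hκ
  have hk : expand B p (E p κ) = 1 + C κ * X ^ p := by
    rw [E_of_sq p hB hκ, map_add, map_one, map_mul, expand_C, expand_X]
  have main := congrArg (ψ.val g) (E_mul_linear p hB ha hb)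
  rw [← E_of_sq p hB hb, ← hκdef, ← hk,
    ψ.mul g _ _ (isChar_E p hB ha) (isChar_E p hB hbp),
    ψ.mul g _ _ (isChar_E p hB hab) (isChar_expand p hA g _ (isChar_E p hB hκp)), hU g a ha, hU g b hbp,
    hU g _ hab, hV g κ hκp, eval₂_of_sq g U hb, eval₂_of_sq g V hκ, h0, h1, hV0, map_one, map_zero, zero_mul,
    add_zero, mul_one] at main
  have hadd : U.eval₂ g (a + b) = U.eval₂ g a + (derivative U).eval₂ g a * b := by
    have h := eval_add_of_sq_eq_zero (U.map g) a b hb
    simpa [derivative_map, eval_map] using h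
  rw [hadd, hκdef, ← map_cc p g] at main
  rw [map_mul]
  linear_combination -main - (derivative U).eval₂ g a * g (V.coeff 1) * g (cc p A (p - 1)) * a ^ (p - 1) * hb

/-- A natural homomorphism trivial on linear characters is trivial on truncated exponentials, and on linear
characters in `p`-th powers. -/
theorem univ_eq_one (ψ : CharHom A) (U : A[X]) (hdeg : U.natDegree < p) (h0 : U.coeff 0 = 1) (h1 : U.coeff 1 = 0)
    (hU : ∀ {B : Type u} [CommRing B] (g : A →+* B) (a : B), a ^ p = 0 → ψ.val g (E p a) = U.eval₂ g a)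
    (V : A[X]) (hV0 : V.coeff 0 = 1)
    (hV : ∀ {B : Type u} [CommRing B] (g : A →+* B) (a : B), a ^ p = 0 →
      ψ.val g (expand B p (E p a)) = V.eval₂ g a) :
    U = 1 ∧ V.coeff 1 = 0 := by
  let I : Ideal A[X] := Ideal.span {(X : A[X]) ^ p}
  let q : A[X] →+* A[X] ⧸ I := Ideal.Quotient.mk I
  let ι : A[X] ⧸ I →+* DualNumber (A[X] ⧸ I) := TrivSqZeroExt.inlHom (A[X] ⧸ I) (A[X] ⧸ I)
  let g : A →+* DualNumber (A[X] ⧸ I) := ι.comp (q.comp C)
  have ha₀ : (q X) ^ p = 0 := by
    rw [← map_pow, Ideal.Quotient.eq_zero_iff_mem]; exact Ideal.mem_span_singleton_self _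
  have ha : (ι (q X)) ^ p = 0 := by rw [← map_pow, ha₀, map_zero]
  have main := core_eq p hA ψ U V h0 h1 @hU hV0 @hV g (ι (q X)) DualNumber.eps ha dual_eps_sq
  have hga : ∀ W : A[X], W.eval₂ g (ι (q X)) = ι (q W) := fun W => by
    show W.eval₂ ((ι.comp q).comp C) ((ι.comp q) X) = (ι.comp q) W
    rw [← hom_eval₂, eval₂_C_X]
  set W : A[X] := C (V.coeff 1 * cc p A (p - 1)) * X ^ (p - 1) with hW
  have hgW : g (V.coeff 1 * cc p A (p - 1)) * (ι (q X)) ^ (p - 1) = ι (q W) := by
    rw [hW, map_mul q, map_pow q, map_mul ι, map_pow ι]; rfl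
  rw [hga, hga, hgW, ← map_mul, ← map_mul q, ← map_add, ← map_add q] at main
  have hz : q (derivative U + U * W) = 0 := by
    have main' := congrArg TrivSqZeroExt.snd main
    rw [snd_inl_mul_eps] at main'
    exact main'.trans TrivSqZeroExt.snd_zero
  rw [Ideal.Quotient.eq_zero_iff_mem, Ideal.mem_span_singleton, X_pow_dvd_iff] at hz
  have hcoef : ∀ n < p, (derivative U).coeff n + (if n = p - 1 then V.coeff 1 * cc p A (p - 1) else 0) = 0 := by
    intro n hn
    have := hz n hn
    rw [coeff_add, hW, ← mul_assoc, coeff_mul_X_pow'] at this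
    rcases eq_or_ne n (p - 1) with rfl | hne
    · rw [if_pos le_rfl, Nat.sub_self, coeff_mul_C, h0, one_mul] at this
      rw [if_pos rfl]; exact this
    · rw [if_neg (by omega)] at this
      rw [if_neg hne]; exact this
  refine ⟨?_, ?_⟩
  · ext n
    rcases n with _ | n
    · rw [h0, coeff_one_zero]
    · rw [coeff_one, if_neg (Nat.succ_ne_zero n)]
      rcases Nat.lt_or_ge (n + 1) p with hn | hn
      · have h := hcoef n (by omega)
        rw [coeff_derivative, if_neg (by omega), add_zero] at h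
        have hu := isUnit_natCast p hA (Nat.succ_pos n) hn
        exact hu.mul_left_eq_zero.1 (by push_cast; exact h)
      · exact coeff_eq_zero_of_natDegree_lt (by omega)
  · have h := hcoef (p - 1) (by have := hp.out.pos; omega)
    rw [coeff_derivative, if_pos rfl, coeff_eq_zero_of_natDegree_lt (by omega), zero_mul, zero_add] at h
    exact (isUnit_cc p hA (by have := hp.out.pos; omega)).mul_left_eq_zero.1 h

theorem eq_one_aux (N : ℕ) : ∀ (ψ : CharHom A),
    (∀ {B : Type u} [CommRing B] (g : A →+* B) (e : B), e ^ 2 = 0 → ψ.val g (E p e) = 1) →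
    ∀ {B : Type u} [CommRing B] (g : A →+* B) (f : B[X]), IsChar f → f.natDegree ≤ N → ψ.val g f = 1 := by
  induction N using Nat.strong_induction_on with
  | _ N ih =>
    intro ψ hψ B _ g f hf hN
    obtain ⟨U, hUdeg, hU0, hU⟩ := exists_univ p hA ψ
    let ψ₁ := frobHom p ψ fun g f hf => isChar_expand p hA g f hf
    obtain ⟨V, hVdeg, hV0, hV⟩ := exists_univ p hA ψ₁
    have hU1 : U.coeff 1 = 0 := by
      have h := hU (TrivSqZeroExt.inlHom A A) DualNumber.eps (pow_eq_zero_of_le hp.out.two_le dual_eps_sq)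
      rw [hψ _ _ dual_eps_sq, eval₂_of_sq _ U dual_eps_sq, hU0] at h
      have h2 := congrArg TrivSqZeroExt.snd h
      rw [TrivSqZeroExt.snd_one, map_one, TrivSqZeroExt.snd_add, TrivSqZeroExt.snd_one, zero_add, snd_inl_mul_eps] at h2
      exact h2.symm
    obtain ⟨hUone, hV1⟩ := univ_eq_one p hA ψ U hUdeg hU0 hU1 @hU V hV0 @hV
    have hB := cast_eq_zero p hA g
    obtain ⟨k, hk, hfk, hlow, hdrop⟩ := hf.decomp p hB
    have hEone : ψ.val g (E p (f.coeff 1)) = 1 := by
      rw [hU g _ (hf.pow_eq_zero p hB), hUone, eval₂_one]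
    rw [hfk, ψ.mul g _ _ (isChar_E p hB (hf.pow_eq_zero p hB)) (isChar_expand p hA g k hk), hEone, one_mul]
    rcases le_or_gt f.natDegree 1 with hd | hd
    · rw [hlow hd, map_one, ψ.one]
    · refine ih k.natDegree (lt_of_lt_of_le (hdrop hd) hN) ψ₁ (fun {B'} _ g' e he => ?_) g k hk le_rfl
      rw [hV g' e (pow_eq_zero_of_le hp.out.two_le he), eval₂_of_sq _ V he, hV0, hV1, map_one, map_zero, zero_mul,
        add_zero]

/-- The twist by an evaluation. -/
def twist (ψ : CharHom A) (t : A) : CharHom A where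
  val g f := ψ.val g f * f.eval (g t)
  mul g f f' hf hf' := by rw [ψ.mul g f f' hf hf', eval_mul]; ring
  one g := by rw [ψ.one, eval_one, mul_one]
  map g φ f hf := by rw [ψ.map g φ f hf, RingHom.comp_apply, eval_map_apply, map_mul]

/-- A natural homomorphism on characters is the evaluation at a point. -/
theorem exists_point (ψ : CharHom A) :
    ∃ t : A, ∀ {B : Type u} [CommRing B] (g : A →+* B) (f : B[X]), IsChar f → ψ.val g f = f.eval (g t) := by
  obtain ⟨U, -, hU0, hU⟩ := exists_univ p hA ψ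
  refine ⟨U.coeff 1, fun {B} _ g f hf => ?_⟩
  have h := eq_one_aux p hA f.natDegree (twist ψ (-U.coeff 1)) (fun {B'} _ g' e he => ?_) g f hf le_rfl
  · have h2 := hf.eval_mul_neg (g (U.coeff 1))
    rw [show (twist ψ (-U.coeff 1)).val g f = ψ.val g f * f.eval (g (-U.coeff 1)) from rfl, map_neg] at h
    calc ψ.val g f = ψ.val g f * (f.eval (g (U.coeff 1)) * f.eval (-g (U.coeff 1))) := by rw [h2, mul_one]
      _ = f.eval (g (U.coeff 1)) * (ψ.val g f * f.eval (-g (U.coeff 1))) := by ring
      _ = _ := by rw [h, mul_one]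
  · show ψ.val g' (E p e) * (E p e).eval (g' (-U.coeff 1)) = 1
    rw [hU g' e (pow_eq_zero_of_le hp.out.two_le he), eval₂_of_sq g' U he, hU0, map_one,
      E_of_sq p (cast_eq_zero p hA g') he, eval_add, eval_one, eval_mul, eval_C, eval_X, map_neg]
    linear_combination (-(g' (U.coeff 1)) * g' (U.coeff 1)) * he

end Groth.Agent.GaDD
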